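import Cfsg.Agent.Lib.RuS.Base

/-! Package GL: the automorphism group of `Z` (plans/RUS.md) -/

set_option autoImplicit false
set_option linter.unusedSectionVars false

namespace CfsgLib.RuS

open Subgroup Cfsg CfsgLib.Tech CfsgLib.StdR2 CfsgLib.Recog
open scoped commutatorElement

variable {G : Type*} [Group G] [Finite G] {D : Dat G} {X V W : Subgroup G} {p : G → V3} {c b : F8}

/-- the normaliser of the torus -/
def bo (i j : ℕ) (x : F8) : F8 := om ^ i * x ^ 2 ^ j

namespace GLx

/-- witnesses for the double coset decomposition -/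
def tw (a b c : F8) : ℕ := (0x2ea3111a0000009100056e000500009a85000023450000ae5100008cb0000063005a70000c00000085454c30000000000000000000000000046d9004000000000000000000008400004b004436005000b600ad008b002d00001000a21900840044009900220000000b766259000000000000000000000012001ba4002800a800008d00b152000000000000000000647100005b0d00009b00002400468600004d0031460086009268000006060000000000000000000000095e0000607400340042008200490020420000829e000000000000000000000002020000956b001e00a0002b00150089b4000055ab0000000000000000000000833500004a430003000096006c03000a00006100755800002c18000016a1000000000000000000b5568aac00000000438321980000000000000000000000000026008141009d005d0073000800660000880054b300aa0001006a000100940041334881000000000000000000000000a61d142a0000000000000000000000000000a9b28e53000000009c402580000013a500001c2900004e40000032800000725c650e0000000069009300000000000000000000000000000000000000000000000000000000000000000000000000000000000000000000000000000000000000000000000000000000000000000000000000000000000000000000000000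 : ℕ) >>> (8 * (64 * a.toN + 8 * b.toN + c.toN))

theorem k1 : ∀ a b c : F8, (∀ x, lin a b c x = 0 → x = 0) →
    (∀ x, lin a b c x = bo (tw a b c % 8 % 7) (tw a b c / 64 % 4 % 3) x) ∨
      ∀ x, lin a b c x = om ^ (tw a b c % 8 % 7) * s0 (bo (tw a b c / 8 % 8 % 7) (tw a b c / 64 % 4 % 3) x) := by
  decide +kernel

theorem ker0 {f : F8 → F8} (ha : ∀ x y, f (x + y) = f x + f y) (hi : Function.Injective f) (x : F8)
    (h : lin (f 1) (f om) (f (om ^ 2)) x = 0) : x = 0 :=
  hi (by rw [eq_lin ha x, h]; exact (by simpa using ha 0 0 : f 0 = 0).symm)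

theorem pow_mod (x : F8) (j : ℕ) : x ^ 2 ^ j = x ^ 2 ^ (j % 3) := by
  have h : ∀ x : F8, x ^ 2 ^ 3 = x := by decide +kernel
  have h2 : ∀ q, x ^ 2 ^ (3 * q) = x := fun q => by
    induction q with
    | zero => simp
    | succ q ih => rw [mul_add, mul_one, pow_add, pow_mul, ih, h]
  conv_lhs => rw [← Nat.div_add_mod j 3, pow_add, pow_mul, h2]

theorem act_pow {n : G} {f : F8 → F8} (h : D.Act n f) (m : ℕ) : D.Act (n ^ m) f^[m] := by
  induction m with
  | zero => intro a; simp
  | succ m ih => rw [pow_succ, Function.iterate_succ]; exact ih.mul h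

end GLx

open GLx

theorem dcos {f : F8 → F8} (ha : ∀ x y, f (x + y) = f x + f y) (hi : Function.Injective f) :
    (∃ i < 7, ∃ j < 3, f = bo i j) ∨ ∃ i < 7, ∃ k < 7, ∃ j < 3, f = fun x => om ^ i * s0 (bo k j x) :=
  (k1 _ _ _ (ker0 ha hi)).imp
    (fun h => ⟨_, Nat.mod_lt _ (by norm_num), _, Nat.mod_lt _ (by norm_num), funext fun x => (eq_lin ha x).trans (h x)⟩)
    fun h => ⟨_, Nat.mod_lt _ (by norm_num), _, Nat.mod_lt _ (by norm_num), _, Nat.mod_lt _ (by norm_num),
      funext fun x => (eq_lin ha x).trans (h x)⟩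

theorem act_two {n : G} {i j k : ℕ} (h : D.Act n (bo i j)) (h2 : n ^ 2 ^ k = 1) (a : F8) :
    n * D.z a = D.z a * n := by
  have k2 : ∀ s : F8, s ≠ 0 → ∀ r < 3, ∀ x : F8, (fun x => s * x ^ 2 ^ r)^[21] x = x := by decide +kernel
  have h1 := act_pow h 21 a
  rw [show bo i j = fun x => om ^ i * x ^ 2 ^ (j % 3) from funext fun x => by rw [bo, pow_mod],
    k2 _ (pow_ne_zero _ (by decide +kernel)) _ (Nat.mod_lt _ (by norm_num)), mul_inv_eq_iff_eq_mul] at h1
  have h3 : n ∈ zpowers (n ^ 21) := mem_zpowers_pow_iff.2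
    (Nat.Coprime.coprime_dvd_right (orderOf_dvd_of_pow_eq_one h2) (Nat.Coprime.pow_right k (by decide)))
  exact mem_centralizer_singleton_iff.1 (zpowers_le.2 (mem_centralizer_singleton_iff.2 h1) h3)

theorem full_of {N : Subgroup G} (hτ : D.τ ∈ N) {n : G} (hn : n ∈ N) {g : F8 → F8} (h : D.Act n g)
    (hg : ∀ i < 7, ∀ j < 3, g ≠ bo i j) (f : F8 → F8) (ha : ∀ x y, f (x + y) = f x + f y)
    (hi : Function.Injective f) : ∃ m ∈ N, D.Act m f := by
  let R : (F8 → F8) → Prop := fun f => ∃ m ∈ N, D.Act m f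
  have cp : ∀ {f g k : F8 → F8}, R f → R g → (∀ x, k x = f (g x)) → R k := fun ⟨a, a1, a2⟩ ⟨b, b1, b2⟩ e =>
    ⟨a * b, N.mul_mem a1 b1, by rw [funext e]; exact a2.mul b2⟩
  have ho : ∀ i : ℕ, R (om ^ i * ·) := fun i => ⟨_, pow_mem hτ i, D.act_τ i⟩
  obtain ⟨i, -, k, hk, j, hj, rfl⟩ := (dcos h.add h.inj).resolve_left fun ⟨i, hi, j, hj, e⟩ => hg i hi j hj e
  have h1 : R fun x => s0 (bo k j x) := cp (ho (6 * i)) ⟨n, hn, h⟩ fun x => by
    rw [← mul_assoc, ← pow_add, show 6 * i + i = 7 * i by ring, pow_mul, show om ^ 7 = 1 by decide +kernel, one_pow,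
      one_mul]
  have k3 : ∀ k < 7, ∀ j < 3, ∃ l < 7, ∀ x : F8, x ^ 2 ^ j = bo k j (om ^ l * x) := by decide +kernel
  obtain ⟨l, -, hl⟩ := k3 k hk j hj
  have h2 : R fun x => s0 (x ^ 2 ^ j) := cp h1 (ho l) fun x => by rw [hl]
  have k4 : ∀ j < 3, ∃ e < 7, ∃ e' < 7, ∀ x : F8,
      x ^ 2 = s0 ((om ^ e * s0 ((om ^ e' * s0 ((om ^ e * x) ^ 2 ^ j)) ^ 2 ^ j)) ^ 2 ^ j) := by decide +kernel
  obtain ⟨e, -, e', -, he⟩ := k4 j hj
  have h3 : R (· ^ 2) := cp h2 (cp (ho e) (cp h2 (cp (ho e') (cp h2 (ho e) fun _ => rfl) fun _ => rfl)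
    fun _ => rfl) fun _ => rfl) he
  have h4 : ∀ j : ℕ, R (· ^ 2 ^ j) := fun j => by
    induction j with
    | zero => exact ⟨1, N.one_mem, fun a => by simp⟩
    | succ j ih => exact cp h3 ih fun x => by rw [pow_succ, pow_mul]
  have k5 : ∀ j < 3, ∀ x : F8, x = (x ^ 2 ^ (3 - j)) ^ 2 ^ j := by decide +kernel
  have h5 : R s0 := cp h2 (h4 (3 - j)) fun x => congrArg s0 (k5 j hj x)
  have h6 : ∀ i j, R (bo i j) := fun i j => cp (ho i) (h4 j) fun _ => rfl
  rcases dcos ha hi with ⟨i, -, j, -, rfl⟩ | ⟨i, -, k, -, j, -, rfl⟩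
  · exact h6 i j
  · exact cp (ho i) (cp h5 (h6 k j) fun _ => rfl) fun _ => rfl

theorem Full.relIndex (h : Full D W) (hN : normalizer (W : Set G) ≤ normalizer (D.Z : Set G)) :
    (centralizer (D.Z : Set G)).relIndex (normalizer (W : Set G)) = 168 := by
  have act : ∀ n : normalizer (W : Set G), D.Act n fun a => D.zc (n * D.z a * (n : G)⁻¹) := fun n a =>
    (D.z_zc (conj_mem_of_mem_normalizer (hN n.2) (D.z_mem a))).symm
  have uq : ∀ {n : G} {f g : F8 → F8}, D.Act n f → D.Act n g → f = g := fun h1 h2 =>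
    funext fun a => D.z_inj ((h1 a).symm.trans (h2 a))
  let φ0 : normalizer (W : Set G) →* Function.End F8 :=
    { toFun := fun n a => D.zc (n * D.z a * (n : G)⁻¹)
      map_one' := uq (act 1) fun a => by simp [Function.End.one_def]
      map_mul' := fun x y => uq (act (x * y)) ((act x).mul (act y)) }
  let φ := φ0.toHomPerm
  have hφ : ∀ n : normalizer (W : Set G), D.Act n (φ n) := act
  have hk : (centralizer (D.Z : Set G)).subgroupOf (normalizer (W : Set G)) = φ.ker := by
    ext n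
    refine ⟨fun hn => Equiv.ext (congrFun (uq (hφ n) fun a => ?_)), fun hn => ?_⟩
    · exact mul_inv_eq_iff_eq_mul.2 (hn _ (D.z_mem a)).symm
    · rintro _ ⟨a, rfl⟩
      have := hφ n a
      rw [MonoidHom.mem_ker.1 hn, mul_inv_eq_iff_eq_mul] at this
      exact this.symm
  have ad : ∀ f : φ.range, ∀ x y, f.1 (x + y) = f.1 x + f.1 y := by
    rintro ⟨_, n, rfl⟩; exact (hφ n).add
  have hb : Function.Bijective fun f : φ.range => (⟨(f.1 1, f.1 om, f.1 (om ^ 2)), ker0 (ad f) f.1.injective⟩ :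
      {t : F8 × F8 × F8 // ∀ x, lin t.1 t.2.1 t.2.2 x = 0 → x = 0}) := by
    refine ⟨fun f g e => Subtype.ext (Equiv.ext fun x => ?_), fun ⟨⟨r, s, t⟩, ht⟩ => ?_⟩
    · simp only [Subtype.mk.injEq, Prod.mk.injEq] at e
      rw [eq_lin (ad f), eq_lin (ad g), e.1, e.2.1, e.2.2]
    · obtain ⟨n, hn, e⟩ := h (lin r s t) (lin_add r s t) fun x y e =>
        eq_of_add (ht _ (by rw [lin_add, e, add_self]))
      have e' := uq (hφ ⟨n, hn⟩) e
      have k6 : ∀ r s t : F8, lin r s t 1 = r ∧ lin r s t om = s ∧ lin r s t (om ^ 2) = t := by decide +kernel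
      refine ⟨⟨_, ⟨n, hn⟩, rfl⟩, Subtype.ext ?_⟩
      simp only [e', k6]
  rw [Subgroup.relIndex, hk, index_ker, Nat.card_eq_of_bijective _ hb, Nat.card_eq_fintype_card]
  decide +kernel

end CfsgLib.RuS
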