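import Cfsg.Agent.Lib.RuS.Main
import Cfsg.Agent.S1772

/-! Simple groups with a standard subgroup `Sz(8)` (plans/RUS.md) -/

set_option autoImplicit false

namespace CfsgLib.RuS

open Subgroup Cfsg CfsgLib.Tech CfsgLib.StdR2 CfsgLib.Recog

variable {G : Type*} [Group G] [Finite G]

theorem simple [IsSimpleGroup G] (hG : ¬ IsMulCommutative G) (hB : HasStrongBProperty G) (L : Subgroup G)
    (hL : IsStandardSubgroup L) {F : Type*} [Field F] [Fintype F] (hF : Fintype.card F = 8)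
    (hLX : Nonempty (L ≃* Lie.Sz F 4)) : Spor.IsoRu G := by
  obtain ⟨D, rfl⟩ := exists_dat hF L hLX
  obtain ⟨t, ht, o⟩ := StrEmb.exists_involution_of_even hL.2.1.1
  have z1 : D.z 1 ≠ 1 := fun e => one_ne_zero (D.z_eq_one.1 e)
  have hN : ∀ N : Subgroup G, N.Normal → N ≠ ⊥ → N = ⊤ := fun N hN h => hN.eq_bot_or_eq_top.resolve_left h
  have hn : ¬ D.A.Normal := fun hn => ne_one_of_orderOf_two o (D.eq_one_KA ht (by
    rw [hN _ hn fun e => z1 (mem_bot.1 (e ▸ D.zA 1))]; exact mem_top _))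
  have hZ : centralizer ((⊤ : Subgroup G) : Set G) = ⊥ := by_contra fun h => hG ⟨⟨fun a b =>
    (hN _ inferInstance h).ge (mem_top b) a (mem_top a)⟩⟩
  have hS : Std D ⊤ := ⟨hL.2.1, hL.2.2.2, nc_of hL, fun e => hn (normalizer_eq_top_iff.1 (hL.2.2.2.trans e)),
    inferInstance, topEquiv.isSimpleGroup, hZ, le_top⟩
  by_cases h4 : Four D.K
  · exact (hS.isoRu h4).map fun e => topEquiv.symm.trans e
  have hO : oddCore G = ⊥ := by_contra fun h => by
    have := Core.odd_card_oddCore G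
    rw [show pPrimeCore 2 G = ⊤ from hN _ inferInstance h] at this
    exact Nat.not_even_iff_odd.2 this (even_card_of_involution (mem_top t) o)
  have hc : center D.A = ⊥ := eq_bot_iff.2 fun a ha => mem_bot.2 (Subtype.ext (D.eq_one_KA
    (fun x hx => congrArg Subtype.val (mem_center_iff.1 ha ⟨x, hx⟩)) a.2))
  have hl : layer G = ⊤ := hN _ Comp.layer_normal fun e => by
    obtain e1 | ⟨Y, h1, -, -, -, -, h2, -⟩ | ⟨h1, -⟩ := Cfsg.Agent.S1347.result _ hL hO t o ht
    · exact hn e1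
    · exact (nontrivial_iff_ne_bot Y).1 h1.toNontrivial (eq_bot_iff.2 (e ▸ h2 ▸ le_sup_left))
    · exact z1 (mem_bot.1 (e ▸ h1 (D.zA 1)))
  obtain ⟨e⟩ := hLX
  rcases Cfsg.Agent.S1772.result hO hB _ hL hn (hS.cyclic h4) t o ht (F := F) 1 le_rfl hF
    ⟨((QuotientGroup.quotientMulEquivOfEq hc).trans QuotientGroup.quotientBot).trans e⟩ with ⟨⟨f⟩⟩ | ⟨-, h⟩ | ⟨-, -, h⟩
  · rw [hl] at f
    have := (topEquiv.symm.trans f).symm.isSimpleGroup
    rcases (inferInstance : (MonoidHom.fst D.A D.A).ker.Normal).eq_bot_or_eq_top with e | e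
    · have h1 : ((1, ⟨_, D.zA 1⟩) : D.A × D.A) ∈ (MonoidHom.fst D.A D.A).ker := rfl
      rw [e, mem_bot] at h1
      exact absurd (congrArg (fun x : D.A × D.A => (x.2 : G)) h1) z1
    · have h1 : ((⟨_, D.zA 1⟩, 1) : D.A × D.A) ∈ (MonoidHom.fst D.A D.A).ker := e ▸ mem_top _
      exact absurd (congrArg Subtype.val h1) z1
  · exact absurd ⟨t, hl ▸ mem_top t, fun _ _ => rfl⟩ h
  · rw [hl] at h
    exact h.map fun e => topEquiv.symm.trans e

end CfsgLib.RuS
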